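import Groth.Agent.CharPTop.Proper

/-! mod-`p` cohomology of proper schemes over separably closed fields is finite -/

universe u

open CategoryTheory CategoryTheory.Limits AlgebraicGeometry Opposite TopologicalSpace W4c5etcohweilstudent CategoryTheory.Abelian

namespace Groth.Agent.CharPTop

set_option autoImplicit false
set_option maxHeartbeats 1000000
set_option synthInstance.maxHeartbeats 400000
set_option backward.isDefEq.respectTransparency false
set_option backward.isDefEq.respectTransparency.types false
set_option linter.style.haveILetI false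

theorem injective_H_zero.{w, v', u'} {C : Type u'} [Category.{v'} C] [Abelian C] [HasExt.{w} C] {A B B' : C} (f : B ⟶ B') [Mono f]
    (x : Ext A B 0) (h : x.comp (Ext.mk₀ f) (add_zero 0) = 0) : x = 0 := by
  obtain ⟨g, rfl⟩ := Ext.homEquiv₀.symm.surjective x
  have h' : Ext.mk₀ (g ≫ f) = Ext.mk₀ (0 : A ⟶ B') := by
    rw [← Ext.mk₀_comp_mk₀, Ext.mk₀_zero]
    exact h
  rw [show g = 0 from zero_of_comp_mono f ((Ext.mk₀_bijective _ _).1 h')]
  show Ext.mk₀ (0 : A ⟶ B) = 0
  exact Ext.mk₀_zero (C := C) _ _

theorem finite_and_card_le {k : Type u} [Field k] [IsSepClosed k] (p : ℕ) [Fact p.Prime] [CharP k p]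
    {X : Scheme.{u}} [X.Over (Spec (CommRingCat.of k))] [IsProper (X ↘ Spec (CommRingCat.of k))] (i : ℕ) :
    Finite (EtCoh.H X (EtCoh.const X (ZMod p)) i) ∧
      Nat.card (EtCoh.H X (EtCoh.const X (ZMod p)) i) ≤
        p ^ Module.finrank k (Coh.HH X (Coh.structureModule X) i) := by
  have hp : p.Prime := Fact.out
  have h0 := natCast_eq_zero_top p k (X ↘ Spec (CommRingCat.of k))
  haveI : IsLocallyNoetherian X := LocallyOfFiniteType.isLocallyNoetherian (X ↘ Spec (CommRingCat.of k))
  haveI := CurveCohLib.finite_HH (k := k) (X := X) (isCoh_structureModule X) i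
  obtain ⟨e, he⟩ := exists_addEquiv_natural (X := X) p hp h0 i
  let F : Coh.HH X (Coh.structureModule X) i →+ Coh.HH X (Coh.structureModule X) i :=
    (Sheaf.H.map (asZar p hp h0) i) + AddMonoidHom.id _
  have hF : ∀ (c : k) (v : Coh.HH X (Coh.structureModule X) i), F (c • v) = c ^ p • F v := fun c v => by
    show Sheaf.H.map (asZar p hp h0) i (Coh.toGlobal (X ↘ Spec (CommRingCat.of k)) c • v) +
        Coh.toGlobal (X ↘ Spec (CommRingCat.of k)) c • v =
      Coh.toGlobal (X ↘ Spec (CommRingCat.of k)) (c ^ p) • (Sheaf.H.map (asZar p hp h0) i v + v)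
    rw [map_pow]
    exact H_map_frob p hp h0 _ i v
  obtain ⟨hfin, hcard⟩ := LangLib.fixed_finite (k := k) p F hF
  haveI hepi : Epi (artinSchreierEndo X p hp h0) := Groth.Agent.S18415.result p hp h0
  let S : ShortComplex (EtCoh.Ab X) := ShortComplex.mk (kernel.ι (artinSchreierEndo X p hp h0)) _ (kernel.condition _)
  have hS : S.ShortExact :=
    { exact := ShortComplex.exact_of_f_is_kernel _ (kernelIsKernel _)
      mono_f := equalizer.ι_mono
      epi_g := hepi }
  have hinj : Function.Injective (Sheaf.H.map S.f i) := by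
    refine (injective_iff_map_eq_zero _).2 fun z hz => ?_
    cases i with
    | zero =>
      haveI : Mono S.f := hS.mono_f
      exact injective_H_zero S.f z hz
    | succ m =>
      obtain ⟨y, hy⟩ := Ext.covariant_sequence_exact₁ _ hS z hz (n₀ := m) rfl
      obtain ⟨w, rfl⟩ := surjective_artinSchreier_of_proper p (X ↘ Spec (CommRingCat.of k)) hp h0 m y
      rw [← hy]
      exact comp_g_extClass hS w
  let c : EtCoh.H X (EtCoh.const X (ZMod p)) i → {v : Coh.HH X (Coh.structureModule X) i | F v = v} := fun z =>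
    ⟨e (Sheaf.H.map S.f i (Sheaf.H.map (EtLC12.ArtinSchreier.constToKer (X := X) p h0) i z)), by
      show Sheaf.H.map (asZar p hp h0) i _ + _ = _
      rw [← he, ← Sheaf.H.map_comp_apply S.f, show S.f ≫ artinSchreierEndo X p hp h0 = 0 from S.zero,
        ← Sheaf.H.map_comp_apply, comp_zero]
      show e (((Sheaf.functorH _ i).map (0 : EtCoh.const X (ZMod p) ⟶ EtCoh.Ga X)).hom z) + _ = _
      rw [Functor.map_zero]
      exact (congrArg (· + _) (map_zero e)).trans (zero_add _)⟩
  haveI := EtLC12.ArtinSchreier.isIso_constToKer (X := X) p h0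
  have hc : Function.Injective c := fun a b h =>
    (((Sheaf.functorH _ i).mapIso (asIso (EtLC12.ArtinSchreier.constToKer (X := X) p h0))).addCommGroupIsoToAddEquiv).injective
      (hinj (e.injective (congrArg Subtype.val h)))
  haveI := hfin.to_subtype
  exact ⟨Finite.of_injective c hc, (Nat.card_le_card_of_injective c hc).trans hcard⟩

end Groth.Agent.CharPTop
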