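import Groth.Agent.CharPTop.Surj
import Groth.Agent.CdInt.CharP

/-! cohomological `p`-dimension over a separably closed field of characteristic `p` -/

universe u

open CategoryTheory CategoryTheory.Limits AlgebraicGeometry Opposite TopologicalSpace

namespace Groth.Agent.CharPTop

set_option autoImplicit false
set_option maxHeartbeats 1000000
set_option synthInstance.maxHeartbeats 400000
set_option backward.isDefEq.respectTransparency false
set_option backward.isDefEq.respectTransparency.types false
set_option linter.style.haveILetI false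

/-- the dimension -/
noncomputable def dimFun {X : Scheme.{u}} (Y : Scheme.{u}) (g : Y ⟶ X) : ℕ := CdInt.dimSucc Y g - 1

theorem isDimFun_dimFun {X : Scheme.{u}} {n : ℕ} (hn : topologicalKrullDim X ≤ n) :
    CdInt.IsDimFun X (dimFun (X := X)) := by
  intro Y₁ Y₂ g₁ g₂ _ _ _ _ m hm
  obtain ⟨h1, h2⟩ := CdInt.isDimFun_dimSucc hn Y₁ Y₂ g₁ g₂ m hm
  have h0 : 0 < CdInt.dimSucc Y₁ g₁ := Nat.succ_pos _
  exact ⟨Nat.sub_le_sub_right h1 1, fun hc hi => by have := h2 hc hi; simp only [dimFun]; omega⟩

theorem cdLEAt {k : Type u} [Field k] [IsSepClosed k] {X : Scheme.{u}} {n : ℕ} (p : ℕ) [Fact p.Prime] [CharP k p]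
    (f : X ⟶ Spec (CommRingCat.of k)) [IsSeparated f] [LocallyOfFiniteType f]
    [QuasiCompact f] (hn : topologicalKrullDim X ≤ n) : Dix.CohDimLEAt X p n := by
  haveI : IsLocallyNoetherian X := LocallyOfFiniteType.isLocallyNoetherian f
  haveI : CompactSpace X := QuasiCompact.compactSpace_of_compactSpace f
  haveI : AlgebraicGeometry.IsNoetherian X := { }
  intro F hF q hq
  have hc : CdInt.ConstBound (X := X) dimFun p := by
    intro Y g _ _ q hq
    obtain ⟨d, e, -, hd⟩ := CdInt.natCast_dim_eq (X := X) (n := n) ((CdInt.topologicalKrullDim_le_of_finite g).trans hn)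
    rw [dimFun, hd] at hq
    exact subsingleton_H_zmod p k (g ≫ f) d e.le q (by omega)
  refine CdInt.bound_all Fact.out (isDimFun_dimFun hn) hc q X (𝟙 X) F hF (fun x _ => ?_) q le_rfl
  obtain ⟨Z, c, _, _, -, -, e⟩ := CdInt.exists_φpt (dimFun (X := X)) (𝟙 X) x
  obtain ⟨d, -, hd, hd'⟩ := CdInt.natCast_dim_eq (X := X) (n := n) ((CdInt.topologicalKrullDim_le_of_finite c).trans hn)
  rw [e, dimFun, hd']
  omega

end Groth.Agent.CharPTop
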