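import Groth.Agent.CharPTop.Natural
import Groth.Agent.EtLC12.GaZar
import Groth.Prelude.Def_W4c5etcohweilstudentAS

/-! the Artin–Schreier endomorphism in Zariski cohomology -/

universe u

open CategoryTheory CategoryTheory.Limits AlgebraicGeometry Opposite TopologicalSpace W4c5etcohweilstudent

namespace Groth.Agent.CharPTop

set_option autoImplicit false
set_option maxHeartbeats 1000000
set_option synthInstance.maxHeartbeats 400000
set_option backward.isDefEq.respectTransparency false
set_option backward.isDefEq.respectTransparency.types false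
set_option linter.style.haveILetI false

variable {X : Scheme.{u}} (p : ℕ) (hp : p.Prime) (h0 : (p : Γ(X, ⊤)) = 0)

include h0 in
theorem natCast_eq_zero_open (U : X.Opens) : (p : Γ(X, U)) = 0 := by
  have h := congrArg (X.presheaf.map (homOfLE (le_top : U ≤ ⊤)).op).hom h0
  rwa [map_natCast, map_zero] at h

/-- `F - 1` on the structure sheaf -/
noncomputable def asZar : Coh.toAb (Coh.structureModule X) ⟶ Coh.toAb (Coh.structureModule X) :=
  ⟨{ app := fun U => AddCommGrpCat.ofHom (asHom Γ(X, U.unop) p hp (natCast_eq_zero_open p h0 U.unop))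
     naturality := fun U V i => by
       refine AddCommGrpCat.hom_ext (AddMonoidHom.ext fun x => ?_)
       exact (ringHom_comp_asHom (X.presheaf.map i).hom p hp (natCast_eq_zero_open p h0 U.unop)
         (natCast_eq_zero_open p h0 V.unop) x).symm }⟩

theorem asHom_congr {R S : Type u} [CommRing R] [CommRing S] (e : R →+* S) (hR : (p : R) = 0) (hS : (p : S) = 0)
    (x : R) : e (asHom R p hp hR x) = asHom S p hp hS (e x) :=
  ringHom_comp_asHom e p hp hR hS x

theorem resGaIso_comm [EtZar.ZarCont X] :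
    (EtZar.resZar X).map (artinSchreierEndo X p hp h0) ≫ (EtLC12.GaZar.resGaIso X).hom =
      (EtLC12.GaZar.resGaIso X).hom ≫ (EtLC12.ZarLift.lift X).map (asZar p hp h0) := by
  refine Sheaf.hom_ext (NatTrans.ext (funext fun U => AddCommGrpCat.hom_ext (AddMonoidHom.ext fun x => ?_)))
  exact congrArg ULift.up (asHom_congr p hp (Scheme.Opens.topIso U.unop).hom.hom
    (natCast_eq_zero_etale p h0 ((EtZar.zarToEt X).obj U.unop)) (natCast_eq_zero_open p h0 U.unop) x.down)

/-- etale and Zariski cohomology of the additive group, compatibly with `F - 1` -/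
theorem exists_addEquiv_natural (n : ℕ) :
    ∃ e : EtCoh.H X (EtCoh.Ga X) n ≃+ Coh.HH X (Coh.structureModule X) n,
      ∀ x, e (Sheaf.H.map (artinSchreierEndo X p hp h0) n x) = Sheaf.H.map (asZar p hp h0) n (e x) := by
  haveI := EtLC12.EtZarCompare.zarCont X
  obtain ⟨e₁, he₁⟩ := exists_natural (EtFound.topIsTerminal X) (T₂ := (⊤ : X.Opens)) (IsTerminal.ofUnique _)
    (EtZar.resZar X)
    (fun G => (G.obj.mapIso (EtLC12.EtZarCompare.topIso (X := X)).op).addCommGroupIsoToAddEquiv)
    (fun f x => (NatTrans.naturality_apply f.hom (EtLC12.EtZarCompare.topIso (X := X)).op.hom x))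
    EtLC12.AffineCartan.IsAffAcyclic (fun I hI => haveI := hI; EtLC12.AffineCartan.isAffAcyclic_of_injective I)
    (fun E hE hI h1 => EtLC12.AffineCartan.isAffAcyclic_X₃ E hE h1 (EtLC12.AffineCartan.isAffAcyclic_of_injective E.X₂))
    (fun E hE _ h1 => EtLC12.EtZarCompare.shortExact_resZar E hE h1)
    (fun I hI k => haveI := hI; Adeq2Lib.ZarFl.subsingleton_H_of_flq k _ (EtLC12.EtZarCompare.flq_resZar_injective I)) n
  obtain ⟨e₂, he₂⟩ := exists_natural (T₁ := (⊤ : X.Opens)) (IsTerminal.ofUnique _) (T₂ := (⊤ : X.Opens))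
    (IsTerminal.ofUnique _) (EtLC12.ZarLift.lift X) (fun G => AddEquiv.ulift.symm) (fun _ _ => rfl) (fun _ => True)
    (fun _ _ => trivial) (fun _ _ _ _ => trivial) (fun _ hE _ _ => EtLC12.ZarLift.shortExact_lift hE)
    (fun I hI k => haveI := hI; Adeq2Lib.ZarFl.subsingleton_H_of_flq k _ (EtLC12.ZarLift.flq_lift_injective I)) n
  let hGa := EtLC12.GaAmitsur.isAffAcyclic_Ga X
  let i := ((Sheaf.functorH _ n).mapIso (EtLC12.GaZar.resGaIso X)).addCommGroupIsoToAddEquiv
  refine ⟨((e₁ _ hGa).trans i).trans (e₂ _ trivial).symm, fun x => ?_⟩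
  show (e₂ _ trivial).symm (i (e₁ _ hGa (Sheaf.H.map (artinSchreierEndo X p hp h0) n x))) = _
  refine (e₂ _ trivial).injective ?_
  rw [AddEquiv.apply_symm_apply, he₁ _ _ hGa hGa, he₂ _ _ trivial trivial (asZar p hp h0)]
  show Sheaf.H.map (EtLC12.GaZar.resGaIso X).hom n (Sheaf.H.map ((EtZar.resZar X).map _) n (e₁ _ hGa x)) =
    Sheaf.H.map _ n (e₂ _ trivial ((e₂ _ trivial).symm (Sheaf.H.map (EtLC12.GaZar.resGaIso X).hom n (e₁ _ hGa x))))
  rw [AddEquiv.apply_symm_apply, ← Sheaf.H.map_comp_apply, ← Sheaf.H.map_comp_apply, resGaIso_comm p hp h0]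

end Groth.Agent.CharPTop
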