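import Groth.Agent.EtLC12.HCompare

/-! natural comparison of sheaf cohomology on two sites -/

set_option autoImplicit false
set_option linter.style.haveILetI false

universe w₁' w₂' w₁ w₂ v₁ v₂ u₁ u₂

open CategoryTheory Limits Opposite Abelian

namespace Groth.Agent.CharPTop

variable {C₁ : Type u₁} [Category.{v₁} C₁] {J₁ : GrothendieckTopology C₁}
  [HasSheafify J₁ AddCommGrpCat.{w₁}] [HasExt.{w₁'} (Sheaf J₁ AddCommGrpCat.{w₁})]
  [EnoughInjectives (Sheaf J₁ AddCommGrpCat.{w₁})]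
  {C₂ : Type u₂} [Category.{v₂} C₂] {J₂ : GrothendieckTopology C₂}
  [HasSheafify J₂ AddCommGrpCat.{w₂}] [HasExt.{w₂'} (Sheaf J₂ AddCommGrpCat.{w₂})]

theorem comp_g_extClass {C : Type*} [Category C] [Abelian C] [HasExt.{w₁'} C] {A : C} {S : ShortComplex C}
    (hS : S.ShortExact) {n : ℕ} (x : Ext A S.X₂ n) :
    (x.comp (Ext.mk₀ S.g) (add_zero n)).comp hS.extClass (rfl : n + 1 = n + 1) = 0 := by
  rw [Ext.comp_assoc_of_second_deg_zero, hS.comp_extClass, Ext.comp_zero]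

theorem comp_extClass_natural {C : Type*} [Category C] [Abelian C] [HasExt.{w₁'} C] {A : C} {S S' : ShortComplex C}
    (hS : S.ShortExact) (hS' : S'.ShortExact) (ψ : S ⟶ S') {n : ℕ} (y : Ext A S.X₃ n) :
    (y.comp hS.extClass (rfl : n + 1 = n + 1)).comp (Ext.mk₀ ψ.τ₁) (add_zero (n + 1)) =
      (y.comp (Ext.mk₀ ψ.τ₃) (add_zero n)).comp hS'.extClass rfl := by
  rw [Ext.comp_assoc_of_third_deg_zero, Ext.comp_assoc_of_second_deg_zero]
  exact congrArg (fun t => Ext.comp y t _) (ShortComplex.ShortExact.extClass_naturality hS hS' ψ)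

/-- the comparison of the cohomology of a class of sheaves is natural in the sheaf -/
theorem exists_natural {T₁ : C₁} (hT₁ : IsTerminal T₁) {T₂ : C₂} (hT₂ : IsTerminal T₂)
    (Φ : Sheaf J₁ AddCommGrpCat.{w₁} ⥤ Sheaf J₂ AddCommGrpCat.{w₂}) [Φ.PreservesZeroMorphisms]
    (sec : ∀ G : Sheaf J₁ AddCommGrpCat.{w₁}, G.obj.obj (op T₁) ≃+ (Φ.obj G).obj.obj (op T₂))
    (hsec : ∀ {G G' : Sheaf J₁ AddCommGrpCat.{w₁}} (f : G ⟶ G') (x : G.obj.obj (op T₁)),
      ((Φ.map f).hom.app (op T₂)).hom (sec G x) = sec G' ((f.hom.app (op T₁)).hom x))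
    (P : Sheaf J₁ AddCommGrpCat.{w₁} → Prop)
    (hI : ∀ I : Sheaf J₁ AddCommGrpCat.{w₁}, Injective I → P I)
    (hP : ∀ E : ShortComplex (Sheaf J₁ AddCommGrpCat.{w₁}), E.ShortExact → Injective E.X₂ → P E.X₁ → P E.X₃)
    (hex : ∀ E : ShortComplex (Sheaf J₁ AddCommGrpCat.{w₁}), E.ShortExact → Injective E.X₂ → P E.X₁ →
      (E.map Φ).ShortExact)
    (hinj : ∀ I : Sheaf J₁ AddCommGrpCat.{w₁}, Injective I → ∀ k, Subsingleton (Sheaf.H (Φ.obj I) (k + 1)))
    (n : ℕ) : ∃ e : ∀ G, P G → (Sheaf.H G n ≃+ Sheaf.H (Φ.obj G) n),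
      ∀ (G G' : Sheaf J₁ AddCommGrpCat.{w₁}) (hG : P G) (hG' : P G') (f : G ⟶ G') (x : Sheaf.H G n),
        e G' hG' (Sheaf.H.map f n x) = Sheaf.H.map (Φ.map f) n (e G hG x) := by
  induction n with
  | zero =>
    refine ⟨fun G _ => ((Sheaf.H.equiv₀ G hT₁).trans (sec G)).trans (Sheaf.H.equiv₀ _ hT₂).symm,
      fun G G' _ _ f x => ?_⟩
    show (Sheaf.H.equiv₀ _ hT₂).symm (sec G' (Sheaf.H.equiv₀ G' hT₁ (Sheaf.H.map f 0 x))) =
      Sheaf.H.map (Φ.map f) 0 ((Sheaf.H.equiv₀ _ hT₂).symm (sec G (Sheaf.H.equiv₀ G hT₁ x)))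
    rw [Sheaf.H.equiv₀_symm_naturality, ← Sheaf.H.equiv₀_naturality]
    exact congrArg _ (hsec f _).symm
  | succ n ih =>
    obtain ⟨e, he⟩ := ih
    let Q : ∀ G : Sheaf J₁ AddCommGrpCat.{w₁}, InjectivePresentation G := fun G => Classical.arbitrary _
    let E := fun G => (Q G).shortComplex
    have hE : ∀ G, (E G).ShortExact := fun G => (Q G).shortExact_shortComplex
    have hI₂ : ∀ G, Injective (E G).X₂ := fun G => (Q G).injective
    have hE' : ∀ G, P G → ((E G).map Φ).ShortExact := fun G hG => hex _ (hE G) (hI₂ G) hG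
    have hP₃ : ∀ G, P G → P (E G).X₃ := fun G hG => hP _ (hE G) (hI₂ G) hG
    let δ : ∀ G, Sheaf.H (E G).X₃ n →+ Sheaf.H G (n + 1) := fun G => (hE G).extClass.postcomp _ rfl
    let δ' : ∀ G, P G → (Sheaf.H (Φ.obj (E G).X₃) n →+ Sheaf.H (Φ.obj G) (n + 1)) :=
      fun G hG => (hE' G hG).extClass.postcomp _ rfl
    have hδ : ∀ G, Function.Surjective (δ G) := fun G z => by
      haveI := hI₂ G
      obtain ⟨y, hy⟩ := Ext.covariant_sequence_exact₁ _ (hE G) z (Subsingleton.elim (α := Sheaf.H (E G).X₂ (n + 1)) _ _) (n₀ := n) rfl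
      exact ⟨y, hy⟩
    have hδ' : ∀ G hG, Function.Surjective (δ' G hG) := fun G hG z => by
      haveI := hinj _ (hI₂ G) n
      obtain ⟨y, hy⟩ := Ext.covariant_sequence_exact₁ _ (hE' G hG) z
        (Subsingleton.elim (α := Sheaf.H (Φ.obj (E G).X₂) (n + 1)) _ _) (n₀ := n) rfl
      exact ⟨y, hy⟩
    have hker : ∀ G hG y, δ G y = 0 ↔ δ' G hG (e _ (hP₃ G hG) y) = 0 := by
      intro G hG y
      constructor
      · intro h
        obtain ⟨x, hx⟩ := Ext.covariant_sequence_exact₃ _ (hE G) y (n₁ := n + 1) rfl h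
        rw [← hx]
        show δ' G hG (e _ (hP₃ G hG) (Sheaf.H.map (E G).g n x)) = 0
        rw [he _ _ (hI _ (hI₂ G)) (hP₃ G hG) (E G).g x]
        exact comp_g_extClass (hE' G hG) _
      · intro h
        obtain ⟨x', hx'⟩ := Ext.covariant_sequence_exact₃ _ (hE' G hG) (e _ (hP₃ G hG) y) (n₁ := n + 1) rfl h
        obtain ⟨x, rfl⟩ := (e _ (hI _ (hI₂ G))).surjective x'
        have hxy : Sheaf.H.map (E G).g n x = y := (e _ (hP₃ G hG)).injective
          ((he _ _ (hI _ (hI₂ G)) (hP₃ G hG) (E G).g x).trans hx')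
        rw [← hxy]
        exact comp_g_extClass (hE G) x
    choose s hs using hδ
    let T := fun G hG => (fun z => δ' G hG (e _ (hP₃ G hG) (s G z)))
    have hT : ∀ G hG y, T G hG (δ G y) = δ' G hG (e _ (hP₃ G hG) y) := fun G hG y => by
      have h := (hker G hG (s G (δ G y) - y)).1 (by rw [map_sub, hs, sub_self])
      rw [map_sub, map_sub] at h
      exact sub_eq_zero.1 h
    have hadd : ∀ G hG a b, T G hG (a + b) = T G hG a + T G hG b := fun G hG a b => by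
      rw [← hs G a, ← hs G b, ← map_add, hT G hG, hT G hG, hT G hG, map_add, map_add]
    refine ⟨fun G hG => AddEquiv.ofBijective (AddMonoidHom.mk' (T G hG) (hadd G hG))
      ⟨(injective_iff_map_eq_zero _).2 fun z hz => ?_, fun z => ?_⟩, fun G G' hG hG' f x => ?_⟩
    · rw [← hs G z]
      exact (hker G hG (s G z)).2 hz
    · obtain ⟨y, rfl⟩ := hδ' G hG z
      obtain ⟨y, rfl⟩ := (e _ (hP₃ G hG)).surjective y
      exact ⟨δ G y, hT G hG y⟩
    · show T G' hG' (Sheaf.H.map f (n + 1) x) = Sheaf.H.map (Φ.map f) (n + 1) (T G hG x)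
      haveI := hI₂ G'
      let b : (E G).X₂ ⟶ (E G').X₂ := @Injective.factorThru _ _ _ _ _ (hI₂ G') (f ≫ (E G').f) (E G).f (hE G).mono_f
      have hb : (E G).f ≫ b = f ≫ (E G').f := @Injective.comp_factorThru _ _ _ _ _ (hI₂ G') _ _ (hE G).mono_f
      haveI := (hE G).epi_g
      let c : (E G).X₃ ⟶ (E G').X₃ := (hE G).gIsCokernel.desc (CokernelCofork.ofπ (b ≫ (E G').g) (by
        rw [← Category.assoc, hb, Category.assoc, (E G').zero, comp_zero]))
      have hc : (E G).g ≫ c = b ≫ (E G').g :=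
        (hE G).gIsCokernel.fac (CokernelCofork.ofπ (b ≫ (E G').g) _) WalkingParallelPair.one
      let ψ : E G ⟶ E G' := { τ₁ := f, τ₂ := b, τ₃ := c, comm₁₂ := hb.symm, comm₂₃ := hc.symm }
      have n1 : ∀ y, Sheaf.H.map f (n + 1) (δ G y) = δ G' (Sheaf.H.map c n y) := fun y =>
        comp_extClass_natural (hE G) (hE G') ψ y
      have n2 : ∀ y, Sheaf.H.map (Φ.map f) (n + 1) (δ' G hG y) = δ' G' hG' (Sheaf.H.map (Φ.map c) n y) := fun y =>
        comp_extClass_natural (hE' G hG) (hE' G' hG') (Φ.mapShortComplex.map ψ) y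
      rw [← hs G x, n1, hT G' hG', hT G hG, n2, he _ _ (hP₃ G hG) (hP₃ G' hG')]

end Groth.Agent.CharPTop
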