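import Groth.Agent.CharPTop.Surj
import Groth.Agent.CurveCohLib.Proper

/-! the Artin–Schreier map is onto for proper schemes over separably closed fields -/

universe u

open CategoryTheory CategoryTheory.Limits AlgebraicGeometry Opposite TopologicalSpace W4c5etcohweilstudent

namespace Groth.Agent.CharPTop

set_option autoImplicit false
set_option maxHeartbeats 1000000
set_option synthInstance.maxHeartbeats 400000
set_option backward.isDefEq.respectTransparency false
set_option backward.isDefEq.respectTransparency.types false
set_option linter.style.haveILetI false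

theorem surjective_artinSchreier_of_proper {k : Type u} [Field k] [IsSepClosed k] (p : ℕ) [Fact p.Prime] [CharP k p]
    {X : Scheme.{u}} (f : X ⟶ Spec (CommRingCat.of k)) [IsProper f] (hp : p.Prime) (h0 : (p : Γ(X, ⊤)) = 0) (q : ℕ) :
    Function.Surjective (Sheaf.H.map (artinSchreierEndo X p hp h0) q) := by
  letI : X.Over (Spec (CommRingCat.of k)) := ⟨f⟩
  haveI : IsProper (X ↘ Spec (CommRingCat.of k)) := ‹IsProper f›
  haveI : IsLocallyNoetherian X := LocallyOfFiniteType.isLocallyNoetherian f
  haveI := CurveCohLib.finite_HH (k := k) (X := X) (isCoh_structureModule X) q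
  obtain ⟨e, he⟩ := exists_addEquiv_natural (X := X) p hp h0 q
  let F : Coh.HH X (Coh.structureModule X) q →+ Coh.HH X (Coh.structureModule X) q :=
    (Sheaf.H.map (asZar p hp h0) q) + AddMonoidHom.id _
  have hF : ∀ (c : k) (v : Coh.HH X (Coh.structureModule X) q), F (c • v) = c ^ p • F v := fun c v => by
    show Sheaf.H.map _ q (Coh.toGlobal f c • v) + Coh.toGlobal f c • v =
      Coh.toGlobal f (c ^ p) • (Sheaf.H.map _ q v + v)
    rw [map_pow]
    exact H_map_frob p hp h0 _ q v
  intro w
  obtain ⟨x, hx⟩ := exists_sub_eq_sep (k := k) p F hF (e w)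
  exact ⟨e.symm x, e.injective (by rw [he, e.apply_symm_apply]; exact (add_sub_cancel_right _ x).symm.trans hx)⟩

end Groth.Agent.CharPTop
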