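import Groth.Agent.CharPTop.GaEndo
import Groth.Agent.TopDegFinite.Basic
import Groth.Agent.VanishGroth7.Noetherian
import Groth.Agent.QCoh.DevissageP
import Groth.Agent.EtLC12.ArtinSchreier
import Groth.Agent.LangLib.Semilinear
import Mathlib.FieldTheory.IsSepClosed

/-! mod-`p` cohomology in characteristic `p` vanishes above the dimension over a separably closed field -/

universe u

open CategoryTheory CategoryTheory.Limits AlgebraicGeometry Opposite TopologicalSpace W4c5etcohweilstudent

namespace Groth.Agent.CharPTop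

set_option autoImplicit false
set_option maxHeartbeats 1000000
set_option synthInstance.maxHeartbeats 400000
set_option backward.isDefEq.respectTransparency false
set_option backward.isDefEq.respectTransparency.types false
set_option linter.style.haveILetI false

open Polynomial in
/-- `F - 1` hits every vector, over a separably closed field. -/
theorem exists_sub_eq_sep {k V : Type*} [Field k] [IsSepClosed k] (p : ℕ) [Fact p.Prime] [CharP k p]
    [AddCommGroup V] [Module k V] [FiniteDimensional k V] (F : V →+ V)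
    (hF : ∀ (c : k) (v : V), F (c • v) = c ^ p • F v) (w : V) :
    ∃ x, F x - x = w := by
  classical
  let e : ℕ → V := fun i => F^[i] w
  obtain ⟨n, hn⟩ : ∃ n, e (n + 1) ∈ Submodule.span k (e '' Set.Iic n) := by
    obtain ⟨n, hn⟩ := monotone_stabilizes_iff_noetherian.2 (inferInstance : IsNoetherian k V)
      ⟨fun n => Submodule.span k (e '' Set.Iic n),
        fun a b hab => Submodule.span_mono (Set.image_mono (Set.Iic_subset_Iic.2 hab))⟩
    exact ⟨n, (hn (n + 1) n.le_succ).ge (Submodule.subset_span ⟨n + 1, Set.mem_Iic.2 le_rfl, rfl⟩)⟩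
  rw [← Finset.coe_Iic, Submodule.mem_span_image_finset_iff_exists_fun'] at hn
  obtain ⟨a₀, ha₀⟩ := hn
  let a : ℕ → k := a₀
  have ha : ∑ i ∈ Finset.range (n + 1), a i • e i = e (n + 1) := by
    rw [← ha₀, Nat.range_succ_eq_Iic]
  let Q : ℕ → k[X] := fun i => Nat.rec (C (a 0) * X ^ p - 1) (fun j q => q ^ p + C (a (j + 1)) * X ^ p) i
  have hQ : ∀ i, derivative (Q i) = 0 := by
    intro i
    cases i with
    | zero => simp [Q, derivative_X_pow, CharP.cast_eq_zero k p]
    | succ j => simp [Q, derivative_pow, derivative_X_pow, CharP.cast_eq_zero k p]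
  have hsep : (Q n - X).Separable := by
    refine (Polynomial.separable_def' _).2 ⟨0, -1, ?_⟩
    simp [hQ]
  obtain ⟨t, ht⟩ : ∃ t, IsRoot (Q n - X) t := by
    refine IsSepClosed.exists_root _ (fun h => ?_) hsep
    have h2 : derivative (Q n - X) = 0 := by rw [eq_C_of_degree_eq_zero h, derivative_C]
    simp [hQ] at h2
  rw [IsRoot, eval_sub, eval_X, sub_eq_zero] at ht
  let x : ℕ → k := fun i => (Q i).eval t
  refine ⟨∑ i ∈ Finset.range (n + 1), x i • e i, ?_⟩
  have h1 : F (∑ i ∈ Finset.range (n + 1), x i • e i) =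
      ∑ i ∈ Finset.range (n + 1), x i ^ p • e (i + 1) := by
    rw [map_sum]
    exact Finset.sum_congr rfl fun i _ => by rw [hF, show e (i + 1) = F (e i) from Function.iterate_succ_apply' F i w]
  rw [h1, Finset.sum_range_succ, show x n ^ p = t ^ p by rw [show x n = t from ht], ← ha, Finset.smul_sum,
    Finset.sum_range_succ' (fun i => x i • e i), Finset.sum_range_succ' (fun i => t ^ p • a i • e i)]
  have hx : ∀ i, x (i + 1) = x i ^ p + a (i + 1) * t ^ p := fun i => by simp [x, Q]
  have h0 : x 0 = a 0 * t ^ p - 1 := by simp [x, Q]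
  have he : e 0 = w := rfl
  simp only [hx, h0, smul_smul, add_smul, Finset.sum_add_distrib, sub_smul, one_smul, mul_comm (t ^ p), he]
  abel

theorem frob_alg {R : Type u} [CommRing R] (p : ℕ) (r m : R) :
    (r * m) ^ p - r * m + r * m = r ^ p * (m ^ p - m + m) := by
  ring

variable {X : Scheme.{u}} (p : ℕ) (hp : p.Prime) (h0 : (p : Γ(X, ⊤)) = 0)

/-- the Frobenius is semilinear -/
theorem smulAb_frob (r : Coh.Γtop X) :
    Coh.smulAb (Coh.structureModule X) r ≫ (asZar p hp h0 + 𝟙 _) =
      (asZar p hp h0 + 𝟙 _) ≫ Coh.smulAb (Coh.structureModule X) (r ^ p) := by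
  refine Sheaf.hom_ext (NatTrans.ext (funext fun U => AddCommGrpCat.hom_ext (AddMonoidHom.ext fun m => ?_)))
  exact (frob_alg (R := Γ(X, U.unop)) p (Coh.resTop X U r) m).trans
    (congrArg (fun t : Γ(X, U.unop) => t * _) (map_pow (Coh.resTop X U) r p).symm)

theorem H_map_frob (r : Coh.Γtop X) (n : ℕ) (x : Coh.HH X (Coh.structureModule X) n) :
    Sheaf.H.map (asZar p hp h0) n (r • x) + r • x =
      r ^ p • (Sheaf.H.map (asZar p hp h0) n x + x) := by
  show Sheaf.H.map _ n (Sheaf.H.map (Coh.smulAb _ r) n x) + Sheaf.H.map (Coh.smulAb _ r) n x =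
    Sheaf.H.map (Coh.smulAb _ (r ^ p)) n (Sheaf.H.map (asZar p hp h0) n x + x)
  have h := congrArg (fun t => Sheaf.H.map t n x) (smulAb_frob p hp h0 r)
  simp only [Sheaf.H.map_comp_apply, Sheaf.H.map_add_apply, Sheaf.H.map_id_apply] at h
  exact h

theorem isCoh_structureModule (X : Scheme.{u}) [IsLocallyNoetherian X] : Coh.IsCoh (Coh.structureModule X) :=
  QCoh.isCoh_structureModule'

variable (k : Type u) [Field k] [IsSepClosed k] [CharP k p] [Fact p.Prime]
  (f : X ⟶ Spec (CommRingCat.of k)) [IsSeparated f] [LocallyOfFiniteType f] [QuasiCompact f]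

include k f in
/-- `F - 1` is onto in top degree -/
theorem surjective_asZar (d : ℕ) (hd : topologicalKrullDim X ≤ d) :
    Function.Surjective (Sheaf.H.map (asZar p hp h0 (X := X)) d) := by
  letI : X.Over (Spec (CommRingCat.of k)) := ⟨f⟩
  haveI : IsSeparated (X ↘ Spec (CommRingCat.of k)) := ‹IsSeparated f›
  haveI : LocallyOfFiniteType (X ↘ Spec (CommRingCat.of k)) := ‹LocallyOfFiniteType f›
  haveI : QuasiCompact (X ↘ Spec (CommRingCat.of k)) := ‹QuasiCompact f›
  haveI : IsLocallyNoetherian X := LocallyOfFiniteType.isLocallyNoetherian f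
  haveI := TopDegFinite.main k X _ (isCoh_structureModule X) d hd
  intro w
  let F : Coh.HH X (Coh.structureModule X) d →+ Coh.HH X (Coh.structureModule X) d :=
    (Sheaf.H.map (asZar p hp h0) d) + AddMonoidHom.id _
  have hF : ∀ (c : k) (v : Coh.HH X (Coh.structureModule X) d), F (c • v) = c ^ p • F v := fun c v => by
    show Sheaf.H.map _ d (Coh.toGlobal f c • v) + Coh.toGlobal f c • v =
      Coh.toGlobal f (c ^ p) • (Sheaf.H.map _ d v + v)
    rw [map_pow]
    exact H_map_frob p hp h0 _ d v
  obtain ⟨x, hx⟩ := exists_sub_eq_sep (k := k) p F hF w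
  exact ⟨x, (add_sub_cancel_right _ x).symm.trans hx⟩

include k f in
omit [IsSepClosed k] [Fact p.Prime] [IsSeparated f] [LocallyOfFiniteType f] [QuasiCompact f] in
theorem natCast_eq_zero_top : (p : Γ(X, ⊤)) = 0 := by
  have h := congrArg (Coh.toGlobal f) (CharP.cast_eq_zero k p)
  rwa [map_natCast, map_zero] at h

include k f in
/-- mod-`p` cohomology vanishes above the dimension -/
theorem subsingleton_H_zmod (d : ℕ) (hd : topologicalKrullDim X ≤ d) (q : ℕ) (hq : d + 1 ≤ q) :
    Subsingleton (EtCoh.H X (EtCoh.const X (ZMod p)) q) := by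
  have hp : p.Prime := Fact.out
  have h0 := natCast_eq_zero_top p k f
  haveI : IsLocallyNoetherian X := LocallyOfFiniteType.isLocallyNoetherian f
  haveI : CompactSpace X := (quasiCompact_iff_compactSpace f).1 ‹_›
  haveI : NoetherianSpace X := by
    haveI : AlgebraicGeometry.IsNoetherian X := {}
    infer_instance
  have hvan : ∀ n, d < n → Subsingleton (EtCoh.H X (EtCoh.Ga X) n) := fun n hn => by
    obtain ⟨e, -⟩ := exists_addEquiv_natural (X := X) p hp h0 n
    haveI : Subsingleton (Coh.HH X (Coh.structureModule X) n) :=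
      VanishGroth7.subsingleton_H_of_dim_le (X := X.toPresheafedSpace.carrier) d hd _ n hn
    exact e.toEquiv.subsingleton
  obtain ⟨m, rfl⟩ : ∃ m, q = m + 1 := ⟨q - 1, by omega⟩
  have hsurj : Function.Surjective (Sheaf.H.map (artinSchreierEndo X p hp h0) m) := by
    rcases eq_or_lt_of_le (show d ≤ m by omega) with rfl | hdm
    · obtain ⟨e, he⟩ := exists_addEquiv_natural (X := X) p hp h0 d
      intro w
      obtain ⟨y, hy⟩ := surjective_asZar p hp h0 k f d hd (e w)
      exact ⟨e.symm y, e.injective (by rw [he, e.apply_symm_apply, hy])⟩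
    · haveI := hvan m hdm
      exact fun w => ⟨0, Subsingleton.elim _ _⟩
  haveI hepi : Epi (artinSchreierEndo X p hp h0) := Groth.Agent.S18415.result p hp h0
  let S : ShortComplex (EtCoh.Ab X) := ShortComplex.mk (kernel.ι (artinSchreierEndo X p hp h0)) _ (kernel.condition _)
  have hS : S.ShortExact :=
    { exact := ShortComplex.exact_of_f_is_kernel _ (kernelIsKernel _)
      mono_f := equalizer.ι_mono
      epi_g := hepi }
  haveI : Subsingleton (Sheaf.H S.X₁ (m + 1)) := by
    refine subsingleton_of_forall_eq 0 fun z => ?_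
    haveI := hvan (m + 1) (by omega)
    obtain ⟨y, hy⟩ := Abelian.Ext.covariant_sequence_exact₁ _ hS z
      (Subsingleton.elim (α := Sheaf.H S.X₂ (m + 1)) _ _) (n₀ := m) rfl
    obtain ⟨w, rfl⟩ := hsurj y
    rw [← hy]
    exact comp_g_extClass hS w
  haveI := EtLC12.ArtinSchreier.isIso_constToKer (X := X) p h0
  exact @Equiv.subsingleton _ _ (((Sheaf.functorH _ (m + 1)).mapIso (asIso (EtLC12.ArtinSchreier.constToKer (X := X) p h0))).addCommGroupIsoToAddEquiv).toEquiv ‹Subsingleton (Sheaf.H S.X₁ (m + 1))›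

end Groth.Agent.CharPTop
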